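import Mathlib
/-!
Multiplication by an element of `S ⊗ A` of unit content is injective on every `N ⊗ A`.
-/
set_option autoImplicit false
set_option linter.style.haveILetI false
universe u
open TensorProduct

namespace Groth.Agent.ContentReg

variable {k A : Type u} [Field k] [CommRing A] [Algebra k A]

/-- Coefficient of an element of `S ⊗ A` along a linear form on `A`. -/
noncomputable def cf (S : Type u) [CommRing S] [Algebra k S] (l : A →ₗ[k] k) : S ⊗[k] A →ₗ[k] S :=
  (TensorProduct.rid k S).toLinearMap ∘ₗ l.lTensor S

theorem cf_tmul {S : Type u} [CommRing S] [Algebra k S] (l : A →ₗ[k] k) (s : S) (a : A) :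
    cf S l (s ⊗ₜ a) = l a • s := by
  simp [cf]

theorem cf_map {S S' : Type u} [CommRing S] [Algebra k S] [CommRing S'] [Algebra k S']
    (φ : S →ₐ[k] S') (l : A →ₗ[k] k) (x : S ⊗[k] A) :
    cf S' l (Algebra.TensorProduct.map φ (AlgHom.id k A) x) = φ (cf S l x) := by
  induction x with
  | zero => simp
  | tmul s a => simp [cf_tmul]
  | add x y hx hy => simp [hx, hy]

theorem eq_zero_of_cf {S : Type u} [CommRing S] [Algebra k S] (x : S ⊗[k] A)
    (h : ∀ l, cf S l x = 0) : x = 0 := by
  let b := Module.Free.chooseBasis k A
  apply ((b.repr.lTensor S).trans (finsuppScalarRight k k S _)).injective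
  rw [map_zero]
  ext i
  have key : ∀ y : S ⊗[k] A,
      ((b.repr.lTensor S).trans (finsuppScalarRight k k S _)) y i = cf S (b.coord i) y := by
    intro y
    induction y with
    | zero => simp
    | tmul s a => simp [cf_tmul]
    | add x y hx hy => rw [map_add, map_add, Finsupp.add_apply, hx, hy]
  rw [key, h]
  rfl

theorem lift_eq_cf {S : Type u} [CommRing S] [Algebra k S] (z : A →ₐ[k] k) (x : S ⊗[k] A) :
    Algebra.TensorProduct.lift (AlgHom.id k S) ((Algebra.ofId k S).comp z)
      (fun _ _ => Commute.all _ _) x = cf S z.toLinearMap x := by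
  induction x with
  | zero => simp
  | tmul s a => simp [cf_tmul, Algebra.smul_def, Algebra.ofId_apply, mul_comm]
  | add x y hx hy => simp [hx, hy]

variable {S N : Type u} [CommRing S] [Algebra k S] [AddCommGroup N] [Module k N] [Module S N]
  [IsScalarTower k S N]

/-- The action of `S ⊗ A` on `N ⊗ A`. -/
noncomputable def act : S ⊗[k] A →ₗ[k] Module.End k (N ⊗[k] A) :=
  TensorProduct.homTensorHomMap (RingHom.id k) N A N A ∘ₗ
    TensorProduct.map (Algebra.lsmul k k N).toLinearMap (LinearMap.mul k A)

theorem act_tmul (s : S) (a : A) (n : N) (b : A) :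
    act (s ⊗ₜ[k] a) (n ⊗ₜ[k] b) = (s • n) ⊗ₜ[k] (a * b) := by
  simp [act]

theorem act_natural {N' : Type u} [AddCommGroup N'] [Module k N'] [Module S N'] [IsScalarTower k S N']
    (g : N →ₗ[S] N') (f : S ⊗[k] A) (x : N ⊗[k] A) :
    (g.restrictScalars k).rTensor A (act f x) = act f ((g.restrictScalars k).rTensor A x) := by
  induction f with
  | zero => simp
  | add p q hp hq => simp [hp, hq]
  | tmul s a =>
    induction x with
    | zero => simp
    | add p q hp hq => simp [hp, hq]
    | tmul n b => simp [act_tmul]

theorem act_self (f x : S ⊗[k] A) : act (N := S) f x = f * x := by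
  induction f with
  | zero => simp
  | add p q hp hq => simp [hp, hq, add_mul]
  | tmul s a =>
    induction x with
    | zero => simp
    | add p q hp hq => simp [hp, hq, mul_add]
    | tmul n b => simp [act_tmul]

theorem act_quotient (q : Ideal S) (f : S ⊗[k] A) (x : (S ⧸ q) ⊗[k] A) :
    act f x = Algebra.TensorProduct.map (Ideal.Quotient.mkₐ k q) (AlgHom.id k A) f * x := by
  induction f with
  | zero => simp
  | add p r hp hr => simp [hp, hr, add_mul]
  | tmul s a =>
    induction x with
    | zero => simp
    | add p r hp hr => simp [hp, hr, mul_add]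
    | tmul n b => simp [act_tmul, Algebra.smul_def]

theorem act_restrict {S₀ : Type u} [CommRing S₀] [Algebra k S₀] [Algebra S₀ S] [IsScalarTower k S₀ S]
    [Module S₀ N] [IsScalarTower k S₀ N] [IsScalarTower S₀ S N] (f : S₀ ⊗[k] A) (x : N ⊗[k] A) :
    act (Algebra.TensorProduct.map (IsScalarTower.toAlgHom k S₀ S) (AlgHom.id k A) f) x = act f x := by
  induction f with
  | zero => simp
  | add p q hp hq => simp [hp, hq]
  | tmul s a =>
    induction x with
    | zero => simp
    | add p q hp hq => rw [map_add, map_add, hp, hq]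
    | tmul n b => simp [act_tmul]

end Groth.Agent.ContentReg
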