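import Groth.Agent.ContentReg.Coeff
import Groth.Agent.DiagTor.Dim
import Groth.Agent.FlatCx.Artinian
/-!
An element of `S ⊗ A` of unit content (`A` a finitely generated domain over an algebraically closed
field) is regular, with flat quotient over `S`.
-/
set_option autoImplicit false
set_option linter.style.haveILetI false
set_option maxHeartbeats 1000000
universe u
open TensorProduct

namespace Groth.Agent.ContentReg

variable {k A : Type u} [Field k] [IsAlgClosed k] [CommRing A] [Algebra k A] [IsDomain A]
  [Algebra.FiniteType k A]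

theorem isDomain_quotient_tensor {S : Type u} [CommRing S] [Algebra k S] (q : Ideal S) [q.IsPrime] :
    IsDomain ((S ⧸ q) ⊗[k] A) := by
  haveI : IsDomain (A ⊗[k] (S ⧸ q)) := DiagTor.isDomain_tensor_domain A (S ⧸ q)
  exact (Algebra.TensorProduct.comm k (S ⧸ q) A).toMulEquiv.isDomain_iff.2 ‹_›

theorem act_injective_noetherian {S : Type u} [CommRing S] [Algebra k S] [IsNoetherianRing S]
    (f : S ⊗[k] A) (l : A →ₗ[k] k) (hl : IsUnit (cf S l f))
    (N : Type u) [AddCommGroup N] [Module S N] [Module.Finite S N] :
    ∀ [Module k N] [IsScalarTower k S N], Function.Injective (act (N := N) f) := by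
  induction ‹Module.Finite S N› using IsNoetherianRing.induction_on_isQuotientEquivQuotientPrime with
  | subsingleton M =>
    intro _ _
    haveI : Subsingleton (M ⊗[k] A) := inferInstance
    exact Function.injective_of_subsingleton _
  | quotient M q e =>
    intro _ _
    haveI := isDomain_quotient_tensor (k := k) (A := A) q.1
    have hf : Algebra.TensorProduct.map (Ideal.Quotient.mkₐ k q.1) (AlgHom.id k A) f ≠ 0 := by
      intro h0
      have := cf_map (Ideal.Quotient.mkₐ k q.1) l f
      rw [h0, map_zero] at this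
      exact (hl.map (Ideal.Quotient.mkₐ k q.1)).ne_zero this.symm
    rw [injective_iff_map_eq_zero]
    intro x hx
    apply (LinearEquiv.rTensor A (e.restrictScalars k)).injective
    rw [map_zero]
    have := act_natural (e.toLinearMap) f x
    rw [hx, map_zero, act_quotient] at this
    exact (mul_eq_zero.1 this.symm).resolve_left hf
  | exact N₁ N₂ N₃ g h hg hh hgh h1 h3 =>
    intro _ _
    letI : Module k N₁ := Module.compHom N₁ (algebraMap k S)
    haveI : IsScalarTower k S N₁ := IsScalarTower.of_algebraMap_smul fun _ _ => rfl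
    letI : Module k N₃ := Module.compHom N₃ (algebraMap k S)
    haveI : IsScalarTower k S N₃ := IsScalarTower.of_algebraMap_smul fun _ _ => rfl
    rw [injective_iff_map_eq_zero]
    intro x hx
    have h0 : (h.restrictScalars k).rTensor A x = 0 := by
      apply h3
      rw [map_zero, ← act_natural, hx, map_zero]
    have hex : Function.Exact (g.restrictScalars k) (h.restrictScalars k) := hgh
    obtain ⟨y, rfl⟩ := (rTensor_exact A hex hh x).1 h0
    rw [← act_natural] at hx
    have hinj : Function.Injective ((g.restrictScalars k).rTensor A) :=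
      Module.Flat.rTensor_preserves_injective_linearMap _ hg
    rw [map_eq_zero_iff _ hinj] at hx
    rw [h1 (hx.trans (map_zero _).symm), map_zero]

theorem act_injective {S : Type u} [CommRing S] [Algebra k S]
    (f : S ⊗[k] A) (l : A →ₗ[k] k) (hl : IsUnit (cf S l f))
    (N : Type u) [AddCommGroup N] [Module k N] [Module S N] [IsScalarTower k S N] :
    Function.Injective (act (N := N) f) := by
  classical
  obtain ⟨F, hF⟩ := TensorProduct.exists_finset f
  obtain ⟨v, hv⟩ := hl
  let S₀ : Subalgebra k S := Algebra.adjoin k (↑(insert (↑v⁻¹ : S) (F.image Prod.fst)) : Set S)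
  haveI : Algebra.FiniteType k S₀ :=
    (Subalgebra.fg_iff_finiteType S₀).1 (Subalgebra.fg_adjoin_finset _)
  haveI : IsNoetherianRing S₀ := Algebra.FiniteType.isNoetherianRing k S₀
  have hmem : ∀ i ∈ F, i.1 ∈ S₀ := fun i hi =>
    Algebra.subset_adjoin (Finset.mem_insert_of_mem (Finset.mem_image_of_mem _ hi))
  let f₀ : S₀ ⊗[k] A := ∑ i ∈ F.attach, (⟨i.1.1, hmem i.1 i.2⟩ : S₀) ⊗ₜ i.1.2
  have hf₀ : Algebra.TensorProduct.map (IsScalarTower.toAlgHom k S₀ S) (AlgHom.id k A) f₀ = f := by
    simp only [f₀, map_sum, Algebra.TensorProduct.map_tmul, IsScalarTower.coe_toAlgHom,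
      AlgHom.coe_id, id_eq]
    rw [hF]
    exact Finset.sum_attach F (fun i => i.1 ⊗ₜ[k] i.2)
  have hl₀ : IsUnit (cf S₀ l f₀) := by
    have h1 := cf_map (IsScalarTower.toAlgHom k S₀ S) l f₀
    rw [hf₀, ← hv] at h1
    refine IsUnit.of_mul_eq_one (⟨↑v⁻¹, Algebra.subset_adjoin (Finset.mem_insert_self _ _)⟩ : S₀) ?_
    apply Subtype.ext
    show ((cf S₀ l f₀ : S₀) : S) * ↑v⁻¹ = 1
    rw [show ((cf S₀ l f₀ : S₀) : S) = ↑v from h1.symm, Units.mul_inv]
  rw [injective_iff_map_eq_zero]
  intro x hx
  obtain ⟨G, rfl⟩ := TensorProduct.exists_finset x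
  let M : Submodule S₀ N := Submodule.span S₀ (↑(G.image Prod.fst) : Set N)
  haveI : Module.Finite S₀ M := Module.Finite.iff_fg.2 (Submodule.fg_span (Finset.finite_toSet _))
  let y : M ⊗[k] A := ∑ i ∈ G.attach,
    (⟨i.1.1, Submodule.subset_span (Finset.mem_image_of_mem _ i.2)⟩ : M) ⊗ₜ i.1.2
  have hy : (M.subtype.restrictScalars k).rTensor A y = ∑ i ∈ G, i.1 ⊗ₜ[k] i.2 := by
    simp only [y, map_sum, LinearMap.rTensor_tmul, LinearMap.coe_restrictScalars,
      Submodule.coe_subtype]
    exact Finset.sum_attach G (fun i => i.1 ⊗ₜ[k] i.2)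
  have hinj : Function.Injective ((M.subtype.restrictScalars k).rTensor A) :=
    Module.Flat.rTensor_preserves_injective_linearMap _ M.injective_subtype
  rw [← hf₀, act_restrict, ← hy, ← act_natural, map_eq_zero_iff _ hinj] at hx
  rw [← hy, act_injective_noetherian f₀ l hl₀ M (hx.trans (map_zero _).symm), map_zero]

variable {S : Type u} [CommRing S] [Algebra k S] {f : S ⊗[k] A} {l : A →ₗ[k] k}

theorem mem_nonZeroDivisors (hl : IsUnit (cf S l f)) : f ∈ nonZeroDivisors (S ⊗[k] A) := by
  rw [mem_nonZeroDivisors_iff_right]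
  intro x hx
  apply act_injective f l hl S
  rw [map_zero, act_self, mul_comm, hx]

theorem flat_quotient (hl : IsUnit (cf S l f)) :
    Module.Flat S (S ⊗[k] A ⧸ Ideal.span {f}) := by
  refine FlatCx.flat_quotient_of_rTensor_injective (f := LinearMap.mulLeft S f)
    (g := (Ideal.Quotient.mkₐ S (Ideal.span {f})).toLinearMap) ?_ Ideal.Quotient.mk_surjective ?_
  · intro x
    show Ideal.Quotient.mk (Ideal.span {f}) x = 0 ↔ _
    rw [Ideal.Quotient.eq_zero_iff_mem, Ideal.mem_span_singleton]
    exact ⟨fun ⟨c, hc⟩ => ⟨c, hc.symm⟩, fun ⟨c, hc⟩ => ⟨c, hc.symm⟩⟩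
  · intro N _ _
    letI : Module k N := Module.compHom N (algebraMap k S)
    haveI : IsScalarTower k S N := IsScalarTower.of_algebraMap_smul fun _ _ => rfl
    let e : (S ⊗[k] A) ⊗[S] N ≃ₗ[S] N ⊗[k] A :=
      (TensorProduct.comm S _ N).trans (TensorProduct.AlgebraTensorModule.cancelBaseChange k S S N A)
    have he : ∀ x, e ((LinearMap.mulLeft S f).rTensor N x) = act f (e x) := by
      intro x
      induction x with
      | zero => simp
      | add p q hp hq => rw [map_add, map_add, map_add, map_add, hp, hq]
      | tmul t n =>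
        rw [LinearMap.rTensor_tmul, LinearMap.mulLeft_apply]
        induction t with
        | zero => simp
        | add p q hp hq =>
          rw [mul_add, TensorProduct.add_tmul, TensorProduct.add_tmul, map_add, map_add, map_add,
            hp, hq]
        | tmul s a =>
          clear hl
          induction f with
          | zero => simp
          | add p q hp hq =>
            rw [add_mul, TensorProduct.add_tmul, map_add, map_add, LinearMap.add_apply, hp, hq]
          | tmul s' a' => simp [e, act_tmul, mul_smul]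
    intro x y hxy
    apply e.injective
    apply act_injective f l hl N
    rw [← he, ← he, hxy]

end Groth.Agent.ContentReg
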